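import Mathlib
import Cfsg.Agent.GW.CharD
import Cfsg.Agent.GW.CharG

/-! The character-theoretic input for groups with dihedral Sylow 2-subgroups. -/

set_option autoImplicit false
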